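import Mathlib
import Groth.Prelude.Def_W4c6eohyperellchar2Gc

/-! # The nilpotent block: final filtration -/

namespace Groth.Agent.H27Dieu.Nil

open W4c6eohyperellchar2

universe u

variable {c : ℕ} {k : Type u} [Field k]

theorem X_eq (j : Fin c) : X c k (j.val + 1) = (Pi.single j 1, 0) := by
  ext x
  · simp [X, Pi.single_apply, Fin.ext_iff]
  · simp [X]

theorem Y_eq (j : Fin c) : Y c k (j.val + 1) = (0, Pi.single j 1) := by
  ext x
  · simp [Y]
  · simp [Y, Pi.single_apply, Fin.ext_iff]

/-- `Nfil` in coordinates. -/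
theorem mem_Nfil {i : ℕ} {v : GcMod c k} :
    v ∈ Nfil c k i ↔
      (∀ j : Fin c, j.val + 1 + i ≤ 2 * c → v.1 j = 0) ∧ (∀ j : Fin c, i ≤ j.val → v.2 j = 0) := by
  classical
  constructor
  · intro h
    induction h using Submodule.span_induction with
    | mem y hy =>
      rcases hy with ⟨n, hn, rfl⟩ | ⟨n, hn, rfl⟩
      · rw [Set.mem_Icc] at hn
        refine ⟨fun j _ => rfl, fun j hj => ?_⟩
        simp [Y]; omega
      · rw [Set.mem_Ioc] at hn
        refine ⟨fun j hj => ?_, fun j _ => rfl⟩
        simp [X]; omega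
    | zero => simp
    | add y z _ _ hy hz =>
      exact ⟨fun j hj => by simp [hy.1 j hj, hz.1 j hj], fun j hj => by simp [hy.2 j hj, hz.2 j hj]⟩
    | smul a y _ hy =>
      exact ⟨fun j hj => by simp [hy.1 j hj], fun j hj => by simp [hy.2 j hj]⟩
  · rintro ⟨h1, h2⟩
    have : v = ∑ j : Fin c, (v.1 j • X c k (j.val + 1) + v.2 j • Y c k (j.val + 1)) := by
      refine Prod.ext (funext fun x => ?_) (funext fun x => ?_) <;>
        simp [Prod.fst_sum, Prod.snd_sum, Finset.sum_apply, X_eq, Y_eq, Pi.single_apply]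
    rw [this]
    refine Submodule.sum_mem _ fun j _ => Submodule.add_mem _ ?_ ?_
    · by_cases hj : j.val + 1 + i ≤ 2 * c
      · simp [h1 j hj]
      · exact Submodule.smul_mem _ _ (Submodule.subset_span (Or.inr ⟨_, ⟨by omega, j.isLt⟩, rfl⟩))
    · by_cases hj : i ≤ j.val
      · simp [h2 j hj]
      · exact Submodule.smul_mem _ _ (Submodule.subset_span
          (Or.inl ⟨_, ⟨Nat.le_add_left 1 _, le_min (by omega) j.isLt⟩, rfl⟩))

theorem finrank_Nfil {i : ℕ} (hi : i ≤ 2 * c) : Module.finrank k (Nfil c k i) = i := by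
  classical
  let B := (Pi.basisFun k (Fin c)).prod (Pi.basisFun k (Fin c))
  let S : Finset (Fin c ⊕ Fin c) :=
    (Finset.univ.filter fun j : Fin c => j.val < 2 * c - i)ᶜ.disjSum
      (Finset.univ.filter fun j : Fin c => j.val < i)
  have hN : Nfil c k i = Submodule.span k (Set.range fun x : S => B x) := by
    rw [show (Set.range fun x : S => B x) = B '' (S : Set (Fin c ⊕ Fin c)) by ext; simp]
    apply le_antisymm
    · refine Submodule.span_le.mpr ?_
      rintro _ (⟨n, hn, rfl⟩ | ⟨n, hn, rfl⟩)
      · rw [Set.mem_Icc] at hn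
        obtain ⟨j, rfl⟩ : ∃ j, n = j + 1 := ⟨n - 1, by omega⟩
        refine Submodule.subset_span ⟨Sum.inr ⟨j, by omega⟩, ?_, ?_⟩
        · simp [S]; omega
        · change B (Sum.inr ⟨j, by omega⟩) = Y c k ((⟨j, by omega⟩ : Fin c).val + 1)
          rw [Y_eq]
          refine Prod.ext ?_ ?_ <;> simp [B]
      · rw [Set.mem_Ioc] at hn
        obtain ⟨j, rfl⟩ : ∃ j, n = j + 1 := ⟨n - 1, by omega⟩
        refine Submodule.subset_span ⟨Sum.inl ⟨j, by omega⟩, ?_, ?_⟩
        · simp [S]; omega
        · change B (Sum.inl ⟨j, by omega⟩) = X c k ((⟨j, by omega⟩ : Fin c).val + 1)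
          rw [X_eq]
          refine Prod.ext ?_ ?_ <;> simp [B]
    · refine Submodule.span_le.mpr ?_
      rintro _ ⟨x, hx, rfl⟩
      refine mem_Nfil.mpr ?_
      rcases x with j | j <;> simp [S] at hx <;>
        refine ⟨fun l hl => ?_, fun l hl => ?_⟩ <;> simp [B, Pi.single_apply] <;> omega
  have hli : LinearIndependent k (fun x : S => B x) := B.linearIndependent.comp _ Subtype.val_injective
  rw [hN, finrank_span_eq_card hli, Fintype.card_coe]
  simp only [S, Finset.card_disjSum, Finset.card_compl, Fintype.card_fin, Fin.card_filter_val_lt]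
  omega

variable [CharP k 2] [PerfectRing k 2] (a : ℕ → k)

theorem coefY_eq_zero_of {v : GcMod c k} {n : ℕ} (h : ∀ j : Fin c, j.val + 1 = n → v.2 j = 0) :
    coefY v n = 0 := by
  unfold coefY
  split_ifs with hn
  · exact h _ (by simp; omega)
  · rfl

theorem coefX_eq_zero_of {v : GcMod c k} {n : ℕ} (h : ∀ j : Fin c, j.val + 1 = n → v.1 j = 0) :
    coefX v n = 0 := by
  unfold coefX
  split_ifs with hn
  · exact h _ (by simp; omega)
  · rfl

theorem NV_add (v w : GcMod c k) : NV c k a (v + w) = NV c k a v + NV c k a w := by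
  refine Prod.ext (by simp [NV]) (funext fun x => ?_)
  have hY : ∀ n, coefY (v + w) n = coefY v n + coefY w n := fun n => by
    unfold coefY; split_ifs <;> simp
  have hs : ∀ (P : Prop) [Decidable P] (p q : k),
      (if P then p + q else 0) = (if P then p else 0) + (if P then q else 0) := fun P _ p q => by
    split_ifs <;> simp
  simp only [NV, hY, Prod.fst_add, Pi.add_apply, Prod.snd_add, map_add, add_mul, hs, Finset.sum_add_distrib]
  abel

theorem NV_mem {i : ℕ} (hi : i ≤ 2 * c) {v : GcMod c k} (hv : v ∈ Nfil c k i) :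
    NV c k a v ∈ Nfil c k (i / 2) := by
  rw [mem_Nfil] at hv ⊢
  refine ⟨fun j _ => rfl, fun l hl => ?_⟩
  simp only [NV]
  rw [coefY_eq_zero_of fun j hj => hv.2 j (by omega), map_zero, zero_add]
  refine Finset.sum_eq_zero fun j _ => ?_
  split_ifs with h
  · rw [hv.1 j (by omega), zero_mul, map_zero]
  · rfl

theorem exists_NV_eq (ha : a c ≠ 0) {i : ℕ} (hi : i ≤ 2 * c) :
    ∀ m, m ≤ i / 2 → ∀ w : GcMod c k, w ∈ Nfil c k m → ∃ v ∈ Nfil c k i, NV c k a v = w := by
  classical
  intro m
  induction m with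
  | zero =>
    intro _ w hw
    rw [mem_Nfil] at hw
    refine ⟨0, zero_mem _, ?_⟩
    refine Prod.ext (funext fun j => ?_) (funext fun j => ?_)
    · rw [hw.1 j (by omega)]; rfl
    · rw [hw.2 j (Nat.zero_le _)]
      simp [NV, coefY]
  | succ m ih =>
    intro hm w hw
    have hw' := mem_Nfil.mp hw
    set t : k := w.2 ⟨m, by omega⟩ with ht
    obtain ⟨e, he1, he2, he3⟩ : ∃ e, e ∈ Nfil c k (2 * (m + 1)) ∧ e ∈ Nfil c k i ∧
        (NV c k a e).2 ⟨m, by omega⟩ = t := by
      by_cases h : 2 * (m + 1) ≤ c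
      · refine ⟨(0, Pi.single ⟨2 * m + 1, by omega⟩ (t ^ 2)), ?_, ?_, ?_⟩
        · exact mem_Nfil.mpr ⟨fun j _ => rfl, fun j hj => by simp [Pi.single_apply, Fin.ext_iff]; omega⟩
        · exact mem_Nfil.mpr ⟨fun j _ => rfl, fun j hj => by simp [Pi.single_apply, Fin.ext_iff]; omega⟩
        · have h1 : coefY ((0, Pi.single ⟨2 * m + 1, by omega⟩ (t ^ 2)) : GcMod c k) (2 * (m + 1)) = t ^ 2 := by
            unfold coefY
            rw [dif_pos (by omega)]
            simp [Pi.single_apply, Fin.ext_iff]; omega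
          simp [NV, h1]
      · refine ⟨(Pi.single ⟨2 * (c - (m + 1)), by omega⟩ (t ^ 2 / a c), 0), ?_, ?_, ?_⟩
        · exact mem_Nfil.mpr ⟨fun j hj => by simp [Pi.single_apply, Fin.ext_iff]; omega, fun j _ => rfl⟩
        · exact mem_Nfil.mpr ⟨fun j hj => by simp [Pi.single_apply, Fin.ext_iff]; omega, fun j _ => rfl⟩
        · simp only [NV]
          rw [coefY_eq_zero_of fun j _ => rfl, map_zero, zero_add,
            Finset.sum_eq_single (⟨2 * (c - (m + 1)), by omega⟩ : Fin c)]
          · rw [if_pos (by constructor <;> simp <;> omega), Pi.single_eq_same,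
              show (m + 1) + 2 * (c - (m + 1)) / 2 = c by omega, div_mul_cancel₀ _ ha,
              frobeniusEquiv_symm_pow]
          · intro j _ hj; simp [Pi.single_eq_of_ne hj]
          · simp
    have hNe := mem_Nfil.mp (NV_mem a (by omega) he1)
    obtain ⟨v, hv, hv'⟩ := ih (by omega) (w - NV c k a e) (mem_Nfil.mpr ⟨fun j hj => by
        simp only [Prod.fst_sub, Pi.sub_apply]
        rw [hw'.1 j (by omega)]
        simp [NV], fun j hj => by
        simp only [Prod.snd_sub, Pi.sub_apply]
        rcases eq_or_ne j.val m with h | h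
        · rw [show j = (⟨m, by omega⟩ : Fin c) from Fin.ext h]
          rw [he3, ht, sub_self]
        · rw [hw'.2 j (by omega), hNe.2 j (by omega), sub_zero]⟩)
    exact ⟨v + e, add_mem hv he2, by rw [NV_add, hv', sub_add_cancel]⟩

theorem NF_mem_iff (ha : a c ≠ 0) {i : ℕ} (hi : i ≤ 2 * c) (v : GcMod c k) :
    NF c k a v ∈ Nfil c k i ↔ v ∈ Nfil c k (c + (i + 1) / 2) := by
  rw [mem_Nfil, mem_Nfil]
  constructor
  · rintro ⟨h1, h2⟩
    refine ⟨?_, fun j hj => absurd j.isLt (by omega)⟩
    suffices ∀ (N : ℕ) (j : Fin c), j.val = N → j.val + 1 + (c + (i + 1) / 2) ≤ 2 * c → v.1 j = 0 from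
      fun j hj => this _ j rfl hj
    intro N
    induction N using Nat.strong_induction_on with
    | _ N ih =>
      intro j hN hj
      by_cases h : 2 * (j.val + 1) ≤ c
      · have := h1 ⟨2 * j.val + 1, by omega⟩ (by simp only; omega)
        simp only [NF, coefX] at this
        rw [if_pos (by omega), dif_pos (by omega)] at this
        simpa [show (2 * j.val + 1 + 1) / 2 - 1 = j.val by omega] using this
      · have := h2 ⟨2 * (c - (j.val + 1)), by omega⟩ (by simp only; omega)
        simp only [NF] at this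
        rw [if_pos (by omega), Finset.sum_eq_single j] at this
        · rw [if_pos (by omega), show j.val + 1 + 2 * (c - (j.val + 1)) / 2 = c by omega] at this
          exact pow_eq_zero_iff (two_ne_zero) |>.mp ((mul_eq_zero.mp this).resolve_right ha)
        · intro l _ hl
          split_ifs with hlc
          · have : l.val ≠ j.val := fun h => hl (Fin.ext h)
            rw [ih l.val (by omega) l rfl (by omega)]
            ring
          · rfl
        · simp
  · rintro ⟨h1, -⟩
    refine ⟨fun j hj => ?_, fun j hj => ?_⟩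
    · simp only [NF]
      split_ifs with h
      · rw [coefX_eq_zero_of fun l hl => h1 l (by omega), zero_pow two_ne_zero]
      · rfl
    · simp only [NF]
      split_ifs with h
      · refine Finset.sum_eq_zero fun l _ => ?_
        split_ifs with hlc
        · rw [h1 l (by omega)]; ring
        · rfl
      · rfl

end Groth.Agent.H27Dieu.Nil
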